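import Groth.Prelude.Def_EtAlgD
import Groth.Agent.WEField.Etale
import Groth.Agent.WLocalLib.Reduced
import Groth.Agent.GeomIrred.Basic
import Mathlib

/-!
# Base change of the maximal weakly étale subalgebra
-/

set_option autoImplicit false
universe u

open TensorProduct

namespace WEBaseLib

open Groth.Agent

variable (K : Type u) [Field K] (A : Type u) [CommRing A] [Algebra K A]

theorem maxWE_weaklyEtale : Algebra.WeaklyEtale K (EtAlgD.maxWeaklyEtale K A) := by
  refine WEField.weaklyEtale_sSup _ ⟨⊥, ?_⟩ ?_ fun S hS => hS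
  · show Algebra.WeaklyEtale K ↥(⊥ : Subalgebra K A)
    exact WEField.weaklyEtale_of_surjective ((Algebra.ofId K A).codRestrict ⊥ fun k => (⊥ : Subalgebra K A).algebraMap_mem k)
      (fun x => by
        obtain ⟨k, hk⟩ := Algebra.mem_bot.1 x.2
        exact ⟨k, Subtype.ext hk⟩)
  · intro S hS T hT
    haveI : Algebra.WeaklyEtale K S := hS
    haveI : Algebra.WeaklyEtale K T := hT
    exact ⟨S ⊔ T, WEField.weaklyEtale_sup S T, le_sup_left, le_sup_right⟩

variable {K A}

theorem mem_maxWE {B : Type u} [CommRing B] [Algebra K B] [Algebra.WeaklyEtale K B] (φ : B →ₐ[K] A)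
    (b : B) : φ b ∈ EtAlgD.maxWeaklyEtale K A := by
  haveI : Algebra.WeaklyEtale K φ.range :=
    WEField.weaklyEtale_of_surjective φ.rangeRestrict φ.rangeRestrict_surjective
  exact (le_sSup (show Algebra.WeaklyEtale K φ.range from inferInstance) :
    φ.range ≤ EtAlgD.maxWeaklyEtale K A) ⟨b, rfl⟩

theorem map_mem_maxWE {A' : Type u} [CommRing A'] [Algebra K A'] (φ : A →ₐ[K] A') {x : A}
    (hx : x ∈ EtAlgD.maxWeaklyEtale K A) : φ x ∈ EtAlgD.maxWeaklyEtale K A' := by
  haveI := maxWE_weaklyEtale K A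
  exact mem_maxWE (φ.comp (EtAlgD.maxWeaklyEtale K A).val) ⟨x, hx⟩

theorem mem_of_map_mem {A' : Type u} [CommRing A'] [Algebra K A'] (φ : A →ₐ[K] A')
    (hφ : Function.Injective φ) {x : A} (hx : φ x ∈ EtAlgD.maxWeaklyEtale K A') :
    x ∈ EtAlgD.maxWeaklyEtale K A := by
  haveI := maxWE_weaklyEtale K A'
  let S : Subalgebra K A := (EtAlgD.maxWeaklyEtale K A').comap φ
  let ψ : S →ₐ[K] EtAlgD.maxWeaklyEtale K A' := (φ.comp S.val).codRestrict _ fun s => s.2
  haveI : Algebra.WeaklyEtale K S := WEField.weaklyEtale_of_injective ψ (fun s t h =>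
    Subtype.ext (hφ (congrArg Subtype.val h)))
  exact mem_maxWE S.val ⟨x, hx⟩

theorem idempotent_mem {e : A} (he : IsIdempotentElem e) : e ∈ EtAlgD.maxWeaklyEtale K A := by
  have h0 : e * (1 - e) = 0 := by rw [mul_sub, mul_one, he.eq, sub_self]
  let φ : (Fin 2 → K) →ₐ[K] A := AlgHom.ofLinearMap
    ((LinearMap.proj 0).smulRight e + (LinearMap.proj 1).smulRight (1 - e))
    (by simp)
    (fun x y => by
      have h1 : e * e = e := he.eq
      simp only [LinearMap.add_apply, LinearMap.smulRight_apply, LinearMap.proj_apply, Pi.mul_apply,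
        Algebra.smul_def, map_mul]
      linear_combination (algebraMap K A (x 1) * algebraMap K A (y 1) - algebraMap K A (x 0) * algebraMap K A (y 0)) * h1 -
        (algebraMap K A (x 0) * algebraMap K A (y 1) + algebraMap K A (x 1) * algebraMap K A (y 0) - 2 * (algebraMap K A (x 1) * algebraMap K A (y 1))) * h0 - 0)
  haveI : Algebra.WeaklyEtale K (Fin 2 → K) := inferInstance
  have := mem_maxWE φ ![1, 0]
  simpa [φ] using this

variable (K A)

/-- The inclusion `N ⊗ E → N ⊗ A`. -/
noncomputable abbrev incl (N : Type u) [CommRing N] [Algebra K N] :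
    N ⊗[K] EtAlgD.maxWeaklyEtale K A →ₐ[N] N ⊗[K] A :=
  Algebra.TensorProduct.map (AlgHom.id N N) (EtAlgD.maxWeaklyEtale K A).val

variable {K A}

theorem tmul_mem_range {N : Type u} [CommRing N] [Algebra K N] (x : N) {a : A}
    (ha : a ∈ EtAlgD.maxWeaklyEtale K A) : x ⊗ₜ[K] a ∈ (incl K A N).range :=
  ⟨x ⊗ₜ ⟨a, ha⟩, rfl⟩

/-- Galois descent. -/
theorem mem_range_of_galois {N : Type u} [Field N] [Algebra K N] [FiniteDimensional K N] [IsGalois K N]
    {z : N ⊗[K] A} (hz : z ∈ EtAlgD.maxWeaklyEtale K (N ⊗[K] A)) : z ∈ (incl K A N).range := by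
  classical
  let τ : N ⊗[K] A →ₗ[K] A := (TensorProduct.lid K A).toLinearMap ∘ₗ
    TensorProduct.map (Algebra.trace K N) LinearMap.id
  have hτ : ∀ y : N ⊗[K] A, (1 : N) ⊗ₜ[K] τ y =
      ∑ σ : N ≃ₐ[K] N, Algebra.TensorProduct.map σ.toAlgHom (AlgHom.id K A) y := by
    intro y
    induction y with
    | zero => simp
    | tmul x a =>
      simp only [τ, LinearMap.coe_comp, Function.comp_apply, TensorProduct.map_tmul, LinearMap.id_apply,
        LinearEquiv.coe_coe, TensorProduct.lid_tmul, Algebra.TensorProduct.map_tmul, AlgHom.id_apply]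
      rw [← TensorProduct.smul_tmul, Algebra.smul_def, mul_one, trace_eq_sum_automorphisms,
        TensorProduct.sum_tmul]
      rfl
    | add p q hp hq => simp only [map_add, TensorProduct.tmul_add, hp, hq, Finset.sum_add_distrib]
  have hτmem : ∀ y ∈ EtAlgD.maxWeaklyEtale K (N ⊗[K] A), τ y ∈ EtAlgD.maxWeaklyEtale K A := by
    intro y hy
    refine mem_of_map_mem (Algebra.TensorProduct.includeRight : A →ₐ[K] N ⊗[K] A)
      (Algebra.TensorProduct.includeRight_injective (algebraMap K N).injective) ?_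
    show (1 : N) ⊗ₜ[K] τ y ∈ _
    rw [hτ]
    exact sum_mem fun σ _ => map_mem_maxWE _ hy
  let b := Module.finBasis K N
  have hsum : ∀ y : N ⊗[K] A, y = ∑ i, b.traceDual i ⊗ₜ[K] τ ((b i ⊗ₜ[K] 1) * y) := by
    intro y
    induction y with
    | zero => simp
    | tmul x a =>
      have h1 : ∀ i, τ ((b i ⊗ₜ[K] (1 : A)) * (x ⊗ₜ[K] a)) = Algebra.trace K N (x * b i) • a := fun i => by
        rw [Algebra.TensorProduct.tmul_mul_tmul, one_mul, mul_comm (b i) x]
        rfl
      simp only [h1, ← TensorProduct.smul_tmul, ← TensorProduct.sum_tmul]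
      congr 1
      conv_lhs => rw [← b.traceDual.sum_repr x]
      refine Finset.sum_congr rfl fun i _ => ?_
      rw [Module.Basis.traceDual_repr_apply]
      rfl
    | add p q hp hq =>
      simp only [mul_add, map_add, TensorProduct.tmul_add, Finset.sum_add_distrib, ← hp, ← hq]
  rw [hsum z]
  refine sum_mem fun i _ => tmul_mem_range _ (hτmem _ (mul_mem ?_ hz))
  haveI : Algebra.Etale K N := by
    haveI : Algebra.FormallyEtale K N := Algebra.FormallyEtale.of_isSeparable K N
    exact ⟨inferInstance, Algebra.FinitePresentation.of_finiteType.1 inferInstance⟩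
  exact mem_maxWE (Algebra.TensorProduct.includeLeft : N →ₐ[K] N ⊗[K] A) (b i)

/-- Idempotents over the algebraic closure. -/
theorem idempotent_mem_range_algebraicClosure {e : AlgebraicClosure K ⊗[K] A} (he : IsIdempotentElem e) :
    e ∈ (incl K A (AlgebraicClosure K)).range := by
  classical
  rcases subsingleton_or_nontrivial (AlgebraicClosure K ⊗[K] A) with h | h
  · exact Subsingleton.elim 0 e ▸ zero_mem _
  set q := ringExpChar K with hq
  haveI : ExpChar (AlgebraicClosure K ⊗[K] A) q :=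
    expChar_of_injective_algebraMap (algebraMap K _).injective q
  let Ks := separableClosure K (AlgebraicClosure K)
  let j : Ks ⊗[K] A →ₐ[K] AlgebraicClosure K ⊗[K] A :=
    Algebra.TensorProduct.map Ks.val (AlgHom.id K A)
  have hpow : ∀ y : AlgebraicClosure K ⊗[K] A, ∃ n, y ^ q ^ n ∈ j.range := by
    intro y
    induction y with
    | zero => exact ⟨0, by simp⟩
    | tmul x a =>
      haveI : ExpChar Ks q := expChar_of_injective_algebraMap (algebraMap K Ks).injective q
      obtain ⟨n, r, hr⟩ := IsPurelyInseparable.pow_mem Ks q x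
      exact ⟨n, r ⊗ₜ (a ^ q ^ n), by
        simp only [j, AlgHom.toRingHom_eq_coe, RingHom.coe_coe, Algebra.TensorProduct.map_tmul,
          AlgHom.id_apply, Algebra.TensorProduct.tmul_pow]
        rw [← hr]
        rfl⟩
    | add y y' hy hy' =>
      obtain ⟨n, hn⟩ := hy
      obtain ⟨n', hn'⟩ := hy'
      refine ⟨n + n', ?_⟩
      rw [add_pow_expChar_pow]
      refine add_mem ?_ ?_
      · rw [pow_add, pow_mul]; exact pow_mem hn _
      · rw [add_comm n n', pow_add, pow_mul]; exact pow_mem hn' _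
  obtain ⟨n, hn⟩ := hpow e
  rw [he.pow_eq (pow_ne_zero _ (expChar_pos K q).ne')] at hn
  obtain ⟨e₁, he₁⟩ := hn
  have hfin : ∀ y : Ks ⊗[K] A, ∃ s : Finset Ks, ∀ (S : IntermediateField K Ks), (↑s : Set Ks) ⊆ S →
      y ∈ (Algebra.TensorProduct.map S.val (AlgHom.id K A)).range := by
    intro y
    induction y with
    | zero => exact ⟨∅, fun S _ => zero_mem _⟩
    | tmul x a => exact ⟨{x}, fun S hS => ⟨⟨x, hS (Finset.mem_singleton_self x)⟩ ⊗ₜ a, rfl⟩⟩
    | add y y' hy hy' =>
      obtain ⟨s, hs⟩ := hy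
      obtain ⟨t, ht⟩ := hy'
      exact ⟨s ∪ t, fun S hS => add_mem (hs S fun x hx => hS (Finset.mem_union_left _ hx))
        (ht S fun x hx => hS (Finset.mem_union_right _ hx))⟩
  obtain ⟨s, hs⟩ := hfin e₁
  haveI : Algebra.IsAlgebraic K Ks := inferInstance
  let N := FiniteGaloisIntermediateField.adjoin K (↑s : Set Ks)
  obtain ⟨e₂, he₂⟩ := hs N.toIntermediateField (FiniteGaloisIntermediateField.subset_adjoin K _)
  let i : N.toIntermediateField ⊗[K] A →ₐ[K] AlgebraicClosure K ⊗[K] A :=
    Algebra.TensorProduct.map (Ks.val.comp N.toIntermediateField.val) (AlgHom.id K A)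
  have hi : Function.Injective i :=
    TensorProduct.map_injective_of_flat_flat _ _ (fun x y h => Subtype.ext (Subtype.ext h)) (fun x y h => h)
  have hie : i e₂ = e := by
    have hcomp : i = j.comp (Algebra.TensorProduct.map N.toIntermediateField.val (AlgHom.id K A)) := by
      ext <;> simp [i, j]
    rw [hcomp, AlgHom.comp_apply]
    exact (congrArg j he₂).trans he₁
  have hid : IsIdempotentElem e₂ := hi (by rw [map_mul, hie, he.eq])
  obtain ⟨w, hw⟩ := mem_range_of_galois (idempotent_mem (K := K) hid)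
  rw [← hie, ← hw]
  refine ⟨Algebra.TensorProduct.map (Ks.val.comp N.toIntermediateField.val) (AlgHom.id K _) w, ?_⟩
  clear hw
  induction w with
  | zero => simp
  | tmul x a => rfl
  | add p r hp hr => simp only [map_add, AlgHom.toRingHom_eq_coe, RingHom.coe_coe] at hp hr ⊢; rw [hp, hr]

/-- Idempotents do not change under extension of algebraically closed fields. -/
theorem idempotent_eq_one_tmul {F : Type u} [Field F] [IsAlgClosed F] {B : Type u} [CommRing B] [Algebra F B]
    {Ω : Type u} [Field Ω] [Algebra F Ω] {e : Ω ⊗[F] B} (he : IsIdempotentElem e) :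
    ∃ b : B, IsIdempotentElem b ∧ (1 : Ω) ⊗ₜ[F] b = e := by
  classical
  have hfin : ∀ y : Ω ⊗[F] B, ∃ s : Finset Ω, ∀ (S : Subalgebra F Ω), (↑s : Set Ω) ⊆ S →
      y ∈ (Algebra.TensorProduct.map S.val (AlgHom.id F B)).range := by
    intro y
    induction y with
    | zero => exact ⟨∅, fun S _ => zero_mem _⟩
    | tmul x a => exact ⟨{x}, fun S hS => ⟨⟨x, hS (Finset.mem_singleton_self x)⟩ ⊗ₜ a, rfl⟩⟩
    | add y y' hy hy' =>
      obtain ⟨s, hs⟩ := hy
      obtain ⟨t, ht⟩ := hy'
      exact ⟨s ∪ t, fun S hS => add_mem (hs S fun x hx => hS (Finset.mem_union_left _ hx))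
        (ht S fun x hx => hS (Finset.mem_union_right _ hx))⟩
  obtain ⟨s, hs⟩ := hfin e
  let R : Subalgebra F Ω := Algebra.adjoin F (↑s : Set Ω)
  haveI : Algebra.FiniteType F R := (Subalgebra.fg_iff_finiteType R).1 (Subalgebra.fg_adjoin_finset _)
  obtain ⟨z, hz⟩ := hs R Algebra.subset_adjoin
  have hjinj : Function.Injective (Algebra.TensorProduct.map R.val (AlgHom.id F B)) :=
    TensorProduct.map_injective_of_flat_flat _ _ Subtype.val_injective (fun x y h => h)
  have hzi : IsIdempotentElem z := hjinj (by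
    rw [map_mul]; rw [show Algebra.TensorProduct.map R.val (AlgHom.id F B) z = e from hz, he.eq])
  obtain ⟨m, hm⟩ := Ideal.exists_maximal R
  haveI := hm
  letI := Ideal.Quotient.field m
  haveI : Algebra.FiniteType F (R ⧸ m) := inferInstance
  haveI : Module.Finite F (R ⧸ m) := finite_of_finite_type_of_isJacobsonRing F (R ⧸ m)
  let ev : F ≃ₐ[F] (R ⧸ m) := AlgEquiv.ofBijective (Algebra.ofId F (R ⧸ m))
    (IsAlgClosed.algebraMap_bijective_of_isIntegral (k := F))
  let x₀ : R →ₐ[F] F := ev.symm.toAlgHom.comp (Ideal.Quotient.mkₐ F m)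
  let φ : R ⊗[F] B →ₐ[F] B := (Algebra.TensorProduct.lid F B).toAlgHom.comp
    (Algebra.TensorProduct.map x₀ (AlgHom.id F B))
  refine ⟨φ z, hzi.map φ, ?_⟩
  suffices hsuff : (1 : R) ⊗ₜ[F] φ z = z by
    rw [← hz]
    conv_rhs => rw [← hsuff]
    simp
  refine (eq_of_isNilpotent_sub_of_isIdempotentElem hzi ?_ ?_).symm
  · exact (hzi.map φ).map (Algebra.TensorProduct.includeRight : B →ₐ[F] R ⊗[F] B)
  set d := z - (1 : R) ⊗ₜ[F] φ z with hd
  let bb := Module.Free.chooseBasis F R
  have hcoord : ∀ i, TensorProduct.equivFinsuppOfBasisLeft bb d i ∈ nilradical B := by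
    intro i
    rw [nilradical_eq_sInf, Ideal.mem_sInf]
    intro P hP
    haveI : P.IsPrime := hP
    haveI : IsDomain (R ⊗[F] (B ⧸ P)) := GeomIrred.isDomain_tensor
    let π : R ⊗[F] B →ₐ[F] R ⊗[F] (B ⧸ P) :=
      Algebra.TensorProduct.map (AlgHom.id F R) (Ideal.Quotient.mkₐ F P)
    let φP : R ⊗[F] (B ⧸ P) →ₐ[F] (B ⧸ P) := (Algebra.TensorProduct.lid F _).toAlgHom.comp
      (Algebra.TensorProduct.map x₀ (AlgHom.id F _))
    have hφ : ∀ y, φP (π y) = Ideal.Quotient.mkₐ F P (φ y) := by
      intro y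
      have : φP.comp π = (Ideal.Quotient.mkₐ F P).comp φ := by
        ext <;> simp [φP, π, φ, Algebra.smul_def]
      exact AlgHom.congr_fun this y
    have h1 : ∀ y, IsIdempotentElem y → (π y = 0 ∧ φP (π y) = 0) ∨ (π y = 1 ∧ φP (π y) = 1) := by
      intro y hy
      rcases IsIdempotentElem.iff_eq_zero_or_one.1 (hy.map π) with h | h
      · exact .inl ⟨h, by rw [h, map_zero]⟩
      · exact .inr ⟨h, by rw [h, map_one]⟩
    have heq : φP (π z) = φP (π ((1 : R) ⊗ₜ[F] φ z)) := by
      rw [hφ z]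
      simp [φP, π]
    have hd0 : π d = 0 := by
      rw [hd, map_sub, sub_eq_zero]
      have hidem : IsIdempotentElem ((1 : R) ⊗ₜ[F] φ z) :=
        (hzi.map φ).map (Algebra.TensorProduct.includeRight : B →ₐ[F] R ⊗[F] B)
      rcases h1 z hzi with ⟨a, a'⟩ | ⟨a, a'⟩ <;> rcases h1 _ hidem with ⟨b, b'⟩ | ⟨b, b'⟩
      · rw [a, b]
      · exact absurd ((a'.symm.trans heq).trans b') zero_ne_one
      · exact absurd ((a'.symm.trans heq).trans b') one_ne_zero
      · rw [a, b]
    have hcomm : ∀ y, TensorProduct.equivFinsuppOfBasisLeft bb (π y) i =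
        Ideal.Quotient.mk P (TensorProduct.equivFinsuppOfBasisLeft bb y i) := by
      intro y
      induction y with
      | zero => simp
      | tmul r b => simp [π, Algebra.smul_def]
      | add p r hp hr => simp [hp, hr]
    rw [← Ideal.Quotient.eq_zero_iff_mem, ← hcomm, hd0]
    simp
  have hsum : d = (TensorProduct.equivFinsuppOfBasisLeft bb d).sum fun i b => bb i ⊗ₜ[F] b := by
    rw [← TensorProduct.equivFinsuppOfBasisLeft_symm_apply, LinearEquiv.symm_apply_apply]
  rw [hsum]
  refine isNilpotent_sum fun i _ => ?_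
  obtain ⟨k, hk⟩ := (hcoord i)
  exact ⟨k, by rw [Algebra.TensorProduct.tmul_pow, hk, TensorProduct.tmul_zero]⟩

/-- Idempotents over an algebraically closed extension. -/
theorem idempotent_mem_range {Ω : Type u} [Field Ω] [IsAlgClosed Ω] [Algebra K Ω] {e : Ω ⊗[K] A}
    (he : IsIdempotentElem e) : e ∈ (incl K A Ω).range := by
  let emb : AlgebraicClosure K →ₐ[K] Ω := IsAlgClosed.lift
  letI := emb.toRingHom.toAlgebra
  haveI : IsScalarTower K (AlgebraicClosure K) Ω := IsScalarTower.of_algHom emb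
  let c := Algebra.TensorProduct.cancelBaseChange K (AlgebraicClosure K) Ω Ω A
  obtain ⟨b, hb, hbe⟩ := idempotent_eq_one_tmul (F := AlgebraicClosure K) (he.map c.symm)
  obtain ⟨w, hw⟩ := idempotent_mem_range_algebraicClosure hb
  refine ⟨Algebra.TensorProduct.map emb (AlgHom.id K _) w, ?_⟩
  have h1 : c ((1 : Ω) ⊗ₜ b) = e := by rw [hbe, AlgEquiv.apply_symm_apply]
  rw [← h1, ← hw]
  clear h1 hbe hw
  induction w with
  | zero => simp
  | tmul x a =>
    simp only [c, AlgHom.toRingHom_eq_coe, RingHom.coe_coe, Algebra.TensorProduct.map_tmul,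
      Algebra.TensorProduct.cancelBaseChange_tmul, AlgHom.id_apply]
    rw [Algebra.smul_def, mul_one]
    rfl
  | add p r hp hr =>
    simp only [map_add, TensorProduct.tmul_add, AlgHom.toRingHom_eq_coe, RingHom.coe_coe] at hp hr ⊢
    rw [hp, hr]

/-- Main inclusion. -/
theorem maxWE_le {L : Type u} [Field L] [Algebra K L] :
    EtAlgD.maxWeaklyEtale L (L ⊗[K] A) ≤ (incl K A L).range := by
  classical
  intro z hz
  let Ω := AlgebraicClosure L
  haveI := maxWE_weaklyEtale L (L ⊗[K] A)
  let φ : L ⊗[K] A →ₐ[L] Ω ⊗[K] A := Algebra.TensorProduct.map (Algebra.ofId L Ω) (AlgHom.id K A)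
  let Ψ : Ω ⊗[L] EtAlgD.maxWeaklyEtale L (L ⊗[K] A) →ₐ[Ω] Ω ⊗[K] A :=
    Algebra.TensorProduct.lift (Algebra.ofId Ω _) (φ.comp (EtAlgD.maxWeaklyEtale L (L ⊗[K] A)).val)
      (fun _ _ => Commute.all _ _)
  haveI : Algebra.WeaklyEtale Ω Ψ.range :=
    WEField.weaklyEtale_of_surjective Ψ.rangeRestrict Ψ.rangeRestrict_surjective
  haveI : IsReduced Ψ.range := WLocalLib.isReduced_of_weaklyEtale Ω Ψ.range
  haveI : Algebra.IsIntegral Ω Ψ.range := WEField.isIntegral_of_weaklyEtale Ψ.range
  let v : Ψ.range := Ψ.rangeRestrict ((1 : Ω) ⊗ₜ ⟨z, hz⟩)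
  have hv : (v : Ω ⊗[K] A) = φ z := by
    show Ψ ((1 : Ω) ⊗ₜ ⟨z, hz⟩) = φ z
    simp [Ψ, ← Algebra.TensorProduct.one_def]
  let s : Finset Ω := (minpoly Ω v).roots.toFinset
  let g : Polynomial Ω := Lagrange.nodal s id
  have hgv : Polynomial.aeval v g = 0 := by
    have hmon := minpoly.monic (Algebra.IsIntegral.isIntegral (R := Ω) v)
    have hdvd : minpoly Ω v ∣ g ^ (minpoly Ω v).natDegree := by
      refine (IsAlgClosed.dvd_iff_roots_le_roots hmon.ne_zero (pow_ne_zero _ Lagrange.nodal_ne_zero)).2 ?_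
      rw [Multiset.le_iff_count]
      intro r
      by_cases hr : r ∈ (minpoly Ω v).roots
      · rw [Polynomial.roots_pow, Multiset.count_nsmul]
        refine le_trans (le_trans (Multiset.count_le_card _ _) (Polynomial.card_roots' _))
          (Nat.le_mul_of_pos_right _ ?_)
        rw [Multiset.count_pos, Polynomial.mem_roots Lagrange.nodal_ne_zero]
        exact Lagrange.eval_nodal_at_node (v := id) (Multiset.mem_toFinset.2 hr)
      · rw [Multiset.count_eq_zero_of_notMem hr]; exact Nat.zero_le _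
    obtain ⟨h, hh⟩ := hdvd
    have h0 : (Polynomial.aeval v g) ^ (minpoly Ω v).natDegree = 0 := by
      rw [← map_pow, hh, map_mul, minpoly.aeval, zero_mul]
    exact IsNilpotent.eq_zero ⟨_, h0⟩
  have hkill : ∀ p : Polynomial Ω, (∀ r ∈ s, p.eval r = 0) → Polynomial.aeval (φ z) p = 0 := by
    intro p hp
    have hdvd : g ∣ p := by
      simp only [g, Lagrange.nodal, id]
      refine Finset.prod_dvd_of_coprime (fun a _ b _ hab => ?_) fun a ha => ?_
      · exact Polynomial.isCoprime_X_sub_C_of_isUnit_sub (sub_ne_zero.2 hab).isUnit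
      · exact Polynomial.dvd_iff_isRoot.2 (hp a ha)
    obtain ⟨h, rfl⟩ := hdvd
    rw [← hv, ← Subalgebra.coe_val, Polynomial.aeval_algHom_apply, map_mul, hgv, zero_mul, map_zero]
  let er : Ω → Ω ⊗[K] A := fun r => Polynomial.aeval (φ z) (Lagrange.basis s id r)
  have hinj : Set.InjOn (id : Ω → Ω) ↑s := Set.injOn_id _
  have hidem : ∀ r ∈ s, IsIdempotentElem (er r) := by
    intro r hr
    show er r * er r = er r
    rw [← sub_eq_zero]
    simp only [er]
    rw [← map_mul, ← map_sub]
    refine hkill _ fun t ht => ?_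
    rw [Polynomial.eval_sub, Polynomial.eval_mul]
    by_cases htr : t = r
    · subst htr
      rw [show Polynomial.eval t (Lagrange.basis s id t) = 1 from Lagrange.eval_basis_self hinj hr]; ring
    · rw [show Polynomial.eval t (Lagrange.basis s id r) = 0 from
        Lagrange.eval_basis_of_ne (v := id) (fun h => htr h.symm) ht]; ring
  have hdec : φ z = ∑ r ∈ s, r • er r := by
    rw [← sub_eq_zero]
    have h1 : φ z - ∑ r ∈ s, r • er r =
        Polynomial.aeval (φ z) (Polynomial.X - ∑ r ∈ s, r • Lagrange.basis s id r) := by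
      simp [er]
    rw [h1]
    refine hkill _ fun t ht => ?_
    rw [Polynomial.eval_sub, Polynomial.eval_X, Polynomial.eval_finsetSum, Finset.sum_eq_single t]
    · rw [Polynomial.eval_smul, show Polynomial.eval t (Lagrange.basis s id t) = 1 from
        Lagrange.eval_basis_self hinj ht]
      simp
    · intro r _ hr
      rw [Polynomial.eval_smul, show Polynomial.eval t (Lagrange.basis s id r) = 0 from
        Lagrange.eval_basis_of_ne (v := id) hr ht]
      simp
    · exact fun h => absurd ht h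
  have hφz : φ z ∈ (incl K A Ω).range := by
    rw [hdec]
    exact sum_mem fun r hr => Subalgebra.smul_mem _ (idempotent_mem_range (hidem r hr)) r
  -- descend from `Ω` to `L`
  obtain ⟨w, hw⟩ := hφz
  let E := EtAlgD.maxWeaklyEtale K A
  let ι : E →ₗ[K] A := E.val.toLinearMap
  let π : A →ₗ[K] A ⧸ LinearMap.range ι := (LinearMap.range ι).mkQ
  have hex : Function.Exact ι π := LinearMap.exact_map_mkQ_range ι
  have hL := lTensor_exact L hex (Submodule.mkQ_surjective _)
  have h2 : LinearMap.lTensor L π z = 0 := by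
    have hinjQ : Function.Injective
        (TensorProduct.map (Algebra.linearMap L Ω |>.restrictScalars K) (LinearMap.id : (A ⧸ LinearMap.range ι) →ₗ[K] _)) :=
      TensorProduct.map_injective_of_flat_flat _ _ (algebraMap L Ω).injective (fun x y h => h)
    apply hinjQ
    rw [map_zero]
    have hcomm : ∀ y : L ⊗[K] A,
        TensorProduct.map (Algebra.linearMap L Ω |>.restrictScalars K) LinearMap.id (LinearMap.lTensor L π y) =
          LinearMap.lTensor Ω π (φ y) := by
      intro y
      induction y with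
      | zero => simp
      | tmul x a => simp [φ]
      | add p r hp hr => simp [hp, hr]
    rw [hcomm, ← hw]
    clear hw
    induction w with
    | zero => simp
    | tmul x a =>
      have : π (ι a) = 0 := (Submodule.Quotient.mk_eq_zero _).2 ⟨a, rfl⟩
      simp only [AlgHom.toRingHom_eq_coe, RingHom.coe_coe, Algebra.TensorProduct.map_tmul, AlgHom.id_apply,
        LinearMap.lTensor_tmul]
      rw [show π (E.val a) = 0 from this, TensorProduct.tmul_zero]
    | add p r hp hr =>
      simp only [map_add, AlgHom.toRingHom_eq_coe, RingHom.coe_coe] at hp hr ⊢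
      rw [hp, hr, add_zero]
  obtain ⟨w', hw'⟩ := (hL z).1 h2
  refine ⟨w', ?_⟩
  rw [← hw']
  clear hw' h2
  induction w' with
  | zero => simp
  | tmul x a => rfl
  | add p r hp hr => simp only [map_add, AlgHom.toRingHom_eq_coe, RingHom.coe_coe] at hp hr ⊢; rw [hp, hr]

theorem range_incl_eq_adjoin (L : Type u) [Field L] [Algebra K L] :
    (incl K A L).range = Algebra.adjoin L
      ((Algebra.TensorProduct.includeRight : A →ₐ[K] L ⊗[K] A) '' (EtAlgD.maxWeaklyEtale K A : Set A)) := by
  refine le_antisymm ?_ (Algebra.adjoin_le ?_)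
  · rintro _ ⟨w, rfl⟩
    induction w with
    | zero => simp
    | tmul x a =>
      have : (incl K A L) (x ⊗ₜ a) = x • ((1 : L) ⊗ₜ[K] (a : A)) := by
        simp [incl, TensorProduct.smul_tmul']
      rw [AlgHom.toRingHom_eq_coe, RingHom.coe_coe, this]
      exact Subalgebra.smul_mem _ (Algebra.subset_adjoin (R := L) (show _ ∈ _ '' _ from ⟨(a : A), a.2, rfl⟩)) x
    | add p r hp hr => simp only [map_add] at hp hr ⊢; exact add_mem hp hr
  · rintro _ ⟨a, ha, rfl⟩
    exact tmul_mem_range (K := K) (A := A) (N := L) 1 ha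

theorem range_incl_le (L : Type u) [Field L] [Algebra K L] :
    (incl K A L).range ≤ EtAlgD.maxWeaklyEtale L (L ⊗[K] A) := by
  haveI := maxWE_weaklyEtale K A
  rintro _ ⟨w, rfl⟩
  exact mem_maxWE (incl K A L) w

end WEBaseLib
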